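import Mathlib
import Cfsg.Agent.H841.PiBS.Desc
import Cfsg.Agent.S0242

/-!
# S3876: the groups `L₃(2)` and `S₆` (helper173)

* `seven_mem (h : DT π (SL(3, 2))) : 2 ∈ π → 3 ∈ π → 7 ∈ π`;
* `five_mem (h : DT π (S₆)) : 2 ∈ π → 3 ∈ π → 5 ∈ π`.
-/

set_option autoImplicit false

namespace Cfsg.Agent.H173.PiBS

open Subgroup Cfsg Cfsg.Agent.H841.PiBS

section gen

variable {K : Type*} [Group K]

/-- a `π`-subgroup from the order -/
theorem isPi_of_card {π : Set ℕ} (h2 : 2 ∈ π) (h3 : 3 ∈ π) {A : Subgroup K} {a b : ℕ}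
    (hc : Nat.card A = 2 ^ a * 3 ^ b) : IsPiSubgroup π A := by
  intro p hp hd
  rw [hc] at hd
  rcases hp.dvd_mul.1 hd with h | h
  · rw [(Nat.prime_dvd_prime_iff_eq hp Nat.prime_two).1 (hp.dvd_of_dvd_pow h)]; exact h2
  · rw [(Nat.prime_dvd_prime_iff_eq hp Nat.prime_three).1 (hp.dvd_of_dvd_pow h)]; exact h3

theorem index_conj (U : Subgroup K) (g : K) : (U.map (MulAut.conj g).toMonoidHom).index = U.index :=
  index_map_conj U g

/-- the order of a group divides the factorial of the index of a corefree subgroup -/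
theorem card_dvd_factorial [Finite K] (H : Subgroup K) (hH : H.normalCore = ⊥) :
    Nat.card K ∣ (H.index).factorial := by
  classical
  have : Fintype (K ⧸ H) := Fintype.ofFinite _
  have h1 : Function.Injective (MulAction.toPermHom K (K ⧸ H)) := by
    rw [← MonoidHom.ker_eq_bot_iff, ← normalCore_eq_ker, hH]
  have h2 := card_dvd_of_injective _ h1
  rwa [Nat.card_perm, ← index_eq_card] at h2

end gen

/-! ### `L₃(2)` -/

section L

abbrev L3 := Matrix.SpecialLinearGroup (Fin 3) (ZMod 2)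
abbrev V3 := Fin 3 → ZMod 2

/-- the natural action -/
@[reducible] def act3 : MulAction L3 V3 where
  smul g v := g.1.mulVec v
  one_smul v := Matrix.one_mulVec v
  mul_smul g h v := by
    show (g * h).1.mulVec v = g.1.mulVec (h.1.mulVec v)
    rw [Matrix.mulVec_mulVec]; rfl

attribute [local instance] act3

theorem smul_def3 (g : L3) (v : V3) : g • v = g.1.mulVec v := rfl

/-- a matrix with first column `w` -/
def mat3 (w : V3) : Matrix (Fin 3) (Fin 3) (ZMod 2) :=
  if w 0 = 1 then !![w 0, 0, 0; w 1, 1, 0; w 2, 0, 1]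
  else if w 1 = 1 then !![w 0, 1, 0; w 1, 0, 0; w 2, 0, 1]
  else !![w 0, 0, 1; w 1, 1, 0; w 2, 0, 0]

theorem det_mat3 : ∀ w : V3, w ≠ 0 → (mat3 w).det = 1 := by
  intro w hw
  unfold mat3
  split_ifs with h0 h1
  · rw [Matrix.det_fin_three]
    simp [h0]
  · rw [Matrix.det_fin_three]
    simp [h1]
  · have h0' : w 0 = 0 := by revert h0; generalize w 0 = a; revert a; decide
    have h1' : w 1 = 0 := by revert h1; generalize w 1 = a; revert a; decide
    have h2' : w 2 = 1 := by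
      by_contra h2
      apply hw
      have h2' : w 2 = 0 := by revert h2; generalize w 2 = a; revert a; decide
      funext i; fin_cases i
      · exact h0'
      · exact h1'
      · exact h2'
    rw [Matrix.det_fin_three]
    simp [h0', h1', h2']

theorem mat3_col (w : V3) : (mat3 w).mulVec (Pi.single 0 1) = w := by
  unfold mat3
  split_ifs <;> (funext i; fin_cases i <;> simp [Matrix.mulVec, dotProduct, Fin.sum_univ_three])

theorem orbit_e0 : MulAction.orbit L3 (Pi.single 0 1 : V3) = {w | w ≠ 0} := by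
  ext w
  constructor
  · rintro ⟨g, rfl⟩ h
    have h1 : g⁻¹ • (g • (Pi.single 0 1 : V3)) = g⁻¹ • (0 : V3) := by
      have h' : g • (Pi.single 0 1 : V3) = 0 := h
      rw [h']
    rw [inv_smul_smul, smul_def3, Matrix.mulVec_zero] at h1
    have h2 := congrFun h1 0
    simp at h2
  · intro hw
    exact ⟨⟨mat3 w, det_mat3 w hw⟩, mat3_col w⟩

theorem index_stab {v : V3} (hv : v ≠ 0) : (MulAction.stabilizer L3 v).index = 7 := by
  rw [MulAction.index_stabilizer]
  have h1 : MulAction.orbit L3 v = {w | w ≠ 0} := by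
    rw [← orbit_e0]
    apply MulAction.orbit_eq_iff.2
    rw [orbit_e0]; exact hv
  rw [h1, Set.ncard_eq_toFinset_card']
  decide

/-- the contragredient -/
def theta : L3 →* L3 where
  toFun g := (g⁻¹).transpose
  map_one' := by
    apply Subtype.ext
    rw [inv_one]
    exact Matrix.transpose_one
  map_mul' g h := by
    apply Subtype.ext
    rw [mul_inv_rev]
    exact Matrix.transpose_mul _ _

theorem theta_inj : Function.Injective theta := by
  intro g h hgh
  have h1 : (g⁻¹).1.transpose = (h⁻¹).1.transpose := congrArg Subtype.val hgh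
  have h2 : g⁻¹ = h⁻¹ := Subtype.ext (Matrix.transpose_injective h1)
  exact inv_injective h2

theorem theta_surj : Function.Surjective theta := Finite.injective_iff_surjective.1 theta_inj

theorem card_L3 : Nat.card L3 = 168 := by
  have h := Cfsg.Agent.S0242.result (F := ZMod 2) (q := 2) (by simp) 3 (by norm_num)
  show Nat.card (Matrix.SpecialLinearGroup (Fin 3) (ZMod 2)) = 168
  generalize Nat.card (Matrix.SpecialLinearGroup (Fin 3) (ZMod 2)) = n at h ⊢
  have h2 : ∏ i : Fin 3, (2 ^ 3 - 2 ^ (i : ℕ)) = 168 := by decide +kernel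
  rw [h2] at h
  omega

theorem oddPi_of_index {π : Set ℕ} (h2 : 2 ∈ π) (h3 : 3 ∈ π) {A : Subgroup L3} (hA : A.index = 7) : OddPi π A := by
  have h1 := card_mul_index A
  rw [hA, card_L3] at h1
  refine ⟨isPi_of_card h2 h3 (a := 3) (b := 1) (by omega), ?_⟩
  rw [hA]; decide

/-- three transvections with a common fixed row -/
def tA : L3 := ⟨!![1, 1, 0; 0, 1, 0; 0, 0, 1], by rw [Matrix.det_fin_three]; decide⟩
def tB : L3 := ⟨!![1, 0, 0; 1, 1, 0; 0, 0, 1], by rw [Matrix.det_fin_three]; decide⟩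
def tC : L3 := ⟨!![1, 0, 1; 0, 1, 0; 0, 0, 1], by rw [Matrix.det_fin_three]; decide⟩

theorem inv_of {g : L3} (h : g.1 * g.1 = 1) : g⁻¹ = g := by
  rw [inv_eq_iff_mul_eq_one]
  exact Subtype.ext h

theorem mem_B {g : L3} (h : g.1 * g.1 = 1) (h' : g.1.transpose.mulVec (Pi.single 2 1) = Pi.single 2 1) :
    g ∈ (MulAction.stabilizer L3 (Pi.single 2 1 : V3)).comap theta := by
  rw [mem_comap, MulAction.mem_stabilizer_iff]
  show (g⁻¹).1.transpose.mulVec (Pi.single 2 1) = Pi.single 2 1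
  rw [inv_of h]
  exact h'

theorem no_fix : ∀ v : V3, tA.1.mulVec v = v → tB.1.mulVec v = v → tC.1.mulVec v = v → v = 0 := by
  decide +kernel

/-- **`L₃(2)`** -/
theorem seven_mem {π : Set ℕ} (h2 : 2 ∈ π) (h3 : 3 ∈ π) (h : DT π L3) : 7 ∈ π := by
  obtain ⟨H, hH, hU⟩ := h
  have hne : (Pi.single 0 1 : V3) ≠ 0 := by decide
  have hne2 : (Pi.single 2 1 : V3) ≠ 0 := by decide
  have hA := index_stab hne
  have hB : ((MulAction.stabilizer L3 (Pi.single 2 1 : V3)).comap theta).index = 7 := by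
    rw [index_comap_of_surjective _ theta_surj, index_stab hne2]
  obtain ⟨g, hg⟩ := hU _ (oddPi_of_index h2 h3 hA)
  obtain ⟨k, hk⟩ := hU _ (oddPi_of_index h2 h3 hB)
  have h5 : H.index ∣ 7 := by
    have h6 := index_dvd_of_le hg
    rwa [index_conj, hA] at h6
  rcases (Nat.dvd_prime (by norm_num)).1 h5 with h6 | h6
  · rw [index_eq_one] at h6
    apply hH.pi 7 (by norm_num)
    rw [h6, card_top, card_L3]
    norm_num
  · exfalso
    have h7 : (MulAction.stabilizer L3 (Pi.single 0 1 : V3)).map (MulAut.conj g).toMonoidHom = H := by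
      apply eq_of_le_of_card_ge hg
      have h8 := card_mul_index H
      have h9 := card_mul_index ((MulAction.stabilizer L3 (Pi.single 0 1 : V3)).map (MulAut.conj g).toMonoidHom)
      rw [index_conj, hA, ← h8, h6] at h9
      omega
    rw [← h7] at hk
    have key : ∀ b : L3, b ∈ (MulAction.stabilizer L3 (Pi.single 2 1 : V3)).comap theta →
        b.1.mulVec ((k⁻¹ * g) • (Pi.single 0 1 : V3)) = (k⁻¹ * g) • (Pi.single 0 1 : V3) := by
      intro b hb
      have h1 := hk (conj_mem_map (g := k) hb)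
      rw [mem_map_conj, MulAction.mem_stabilizer_iff] at h1
      rw [← smul_def3, smul_smul]
      have h2 : b * (k⁻¹ * g) = k⁻¹ * g * (g⁻¹ * (k * b * k⁻¹) * g) := by group
      rw [h2, mul_smul (k⁻¹ * g), h1]
    have h8 := no_fix _ (key tA (mem_B (by decide +kernel) (by decide +kernel)))
      (key tB (mem_B (by decide +kernel) (by decide +kernel))) (key tC (mem_B (by decide +kernel) (by decide +kernel)))
    have h9 : (k⁻¹ * g)⁻¹ • ((k⁻¹ * g) • (Pi.single 0 1 : V3)) = (k⁻¹ * g)⁻¹ • (0 : V3) := by rw [h8]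
    rw [inv_smul_smul, smul_def3, Matrix.mulVec_zero] at h9
    exact hne h9

end L

/-! ### `S₆` -/

section S

abbrev S6 := Equiv.Perm (Fin 6)

def t1 : S6 := Equiv.swap 0 1
def t2 : S6 := Equiv.swap 0 1 * Equiv.swap 2 3 * Equiv.swap 4 5
def x0 : S6 := Equiv.swap 0 2 * Equiv.swap 2 4 * (Equiv.swap 1 3 * Equiv.swap 3 5)

theorem card_S6 : Nat.card S6 = 720 := by
  rw [Nat.card_perm, Nat.card_fin]; rfl

theorem cyc1 : t1.cycleType = {2} := by
  exact (Equiv.Perm.isSwap_iff_cycleType.1 ⟨0, 1, by decide, rfl⟩)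

theorem cyc2 : t2.cycleType = {2, 2, 2} := by
  have h1 : (Equiv.swap (2 : Fin 6) 3).cycleType = {2} := Equiv.Perm.isSwap_iff_cycleType.1 ⟨2, 3, by decide, rfl⟩
  have h3 : (Equiv.swap (4 : Fin 6) 5).cycleType = {2} := Equiv.Perm.isSwap_iff_cycleType.1 ⟨4, 5, by decide, rfl⟩
  have h2 := cyc1
  unfold t1 at h2
  have d1 : (Equiv.swap (0 : Fin 6) 1).Disjoint (Equiv.swap 2 3) := by
    intro x; revert x; decide
  have d2 : (Equiv.swap (0 : Fin 6) 1 * Equiv.swap 2 3).Disjoint (Equiv.swap 4 5) := by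
    intro x; revert x; decide
  unfold t2
  rw [d2.cycleType_mul, d1.cycleType_mul, h1, h2, h3]
  rfl

theorem card_C1 : Nat.card (centralizer ({t1} : Set S6)) = 48 := by
  rw [Equiv.Perm.nat_card_centralizer, cyc1]
  decide

theorem card_C2 : Nat.card (centralizer ({t2} : Set S6)) = 48 := by
  rw [Equiv.Perm.nat_card_centralizer, cyc2]
  decide

theorem oddPi_six {π : Set ℕ} (h2 : 2 ∈ π) (h3 : 3 ∈ π) {A : Subgroup S6} (hA : Nat.card A = 48) : OddPi π A := by
  have h1 := card_mul_index A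
  rw [hA, card_S6] at h1
  refine ⟨isPi_of_card h2 h3 (a := 4) (b := 1) (by omega), ?_⟩
  omega

theorem x0_mem : x0 ∈ centralizer ({t2} : Set S6) := by
  rw [mem_centralizer_singleton_iff]
  decide

theorem x0_swap : ∀ a b : Fin 6, a ≠ b → x0 * Equiv.swap a b ≠ Equiv.swap a b * x0 := by decide

theorem no_index_five {H : Subgroup S6} (hH : H.index = 5) : False := by
  by_cases h1 : H.normalCore = ⊥
  · have h2 := card_dvd_factorial H h1
    rw [card_S6, hH] at h2
    exact absurd (Nat.le_of_dvd (by decide) h2) (by decide)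
  · have hnt : Nontrivial H.normalCore := (nontrivial_iff_ne_bot _).2 h1
    have h2 := Equiv.Perm.alternatingGroup_le_of_normal (α := Fin 6) (by rw [Nat.card_fin]; norm_num) hnt
    have h3 := index_dvd_of_le (h2.trans (normalCore_le H))
    rw [hH, alternatingGroup.index_eq_two] at h3
    exact absurd h3 (by decide)

/-- **`S₆`** -/
theorem five_mem {π : Set ℕ} (h2 : 2 ∈ π) (h3 : 3 ∈ π) (h : DT π S6) : 5 ∈ π := by
  obtain ⟨H, hH, hU⟩ := h
  obtain ⟨g, hg⟩ := hU _ (oddPi_six h2 h3 card_C1)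
  obtain ⟨k, hk⟩ := hU _ (oddPi_six h2 h3 card_C2)
  obtain ⟨m, hm⟩ := card_dvd_of_le hg
  rw [card_map_conj, card_C1] at hm
  have hmi := card_mul_index H
  rw [hm, card_S6] at hmi
  have h15 : m * H.index = 15 := by
    have h5 : 48 * (m * H.index) = 48 * 15 := by rw [← mul_assoc]; exact hmi
    omega
  by_cases h5 : 5 ∣ m
  · exact hH.pi 5 (by norm_num) (by rw [hm]; exact h5.mul_left _)
  exfalso
  have hm15 : m ∣ 15 := ⟨_, h15.symm⟩
  have hml : m ≤ 15 := Nat.le_of_dvd (by norm_num) hm15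
  have hm1 : m = 1 ∨ m = 3 := by
    interval_cases m <;> simp_all (config := {decide := true})
  rcases hm1 with rfl | rfl
  · have h7 : (centralizer ({t1} : Set S6)).map (MulAut.conj g).toMonoidHom = H := by
      apply eq_of_le_of_card_ge hg
      rw [card_map_conj, card_C1, hm]
    rw [← h7] at hk
    have h8 := hk (conj_mem_map (g := k) x0_mem)
    rw [mem_map_conj, mem_centralizer_singleton_iff] at h8
    have h9 : x0 * ((k⁻¹ * g) * t1 * (k⁻¹ * g)⁻¹) = ((k⁻¹ * g) * t1 * (k⁻¹ * g)⁻¹) * x0 := by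
      generalize x0 = x0' at h8 ⊢
      have e1 : x0' * ((k⁻¹ * g) * t1 * (k⁻¹ * g)⁻¹) = (k⁻¹ * g) * ((g⁻¹ * (k * x0' * k⁻¹) * g) * t1) * (k⁻¹ * g)⁻¹ := by group
      have e2 : ((k⁻¹ * g) * t1 * (k⁻¹ * g)⁻¹) * x0' = (k⁻¹ * g) * (t1 * (g⁻¹ * (k * x0' * k⁻¹) * g)) * (k⁻¹ * g)⁻¹ := by group
      rw [e1, e2]
      rw [h8]
    have h10 : (k⁻¹ * g) * t1 * (k⁻¹ * g)⁻¹ = Equiv.swap ((k⁻¹ * g) 0) ((k⁻¹ * g) 1) := by
      rw [t1, Equiv.swap_apply_apply]
    rw [h10] at h9
    exact x0_swap _ _ (fun h => absurd ((k⁻¹ * g).injective h) (by decide)) h9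
  · exact no_index_five (H := H) (by omega)

end S

end Cfsg.Agent.H173.PiBS
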