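import Cfsg.Agent.H173.PiBS.Small
import Cfsg.Agent.H543.PiBS.Gen
import Cfsg.Agent.H70.HeCoat
import Cfsg.Agent.QTNorm.SporJ4

/-!
# S3876: the row `He` (helper173)

`row_He`: if `2, 3 ∈ π` and every `π`-subgroup of the Held group lies in a Hall `π`-subgroup, all conjugate, then all the
primes of the order lie in `π`.  The two-locals `C(z) = 2^{1+6}.L₃(2)` and `N(V) = 2^6:3.S₆` give `7, 5 ∈ π`; a subgroup of
index 17 does not exist.
-/

set_option autoImplicit false

namespace Cfsg.Agent.H173.PiBS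

open Subgroup Cfsg Cfsg.Agent.H841.PiBS Cfsg.Agent.SporadicRecognition.HeldModel Cfsg.Agent.KFacts.He.Hyp
  Cfsg.Agent.H6.HexW

theorem isPi_of_two {G : Type*} [Group G] [Finite G] {π : Set ℕ} (h2 : 2 ∈ π) {U : Subgroup G} (hU : IsPGroup 2 U) :
    IsPiSubgroup π U := by
  intro p hp hd
  obtain ⟨n, hn⟩ := IsPGroup.iff_card.1 hU
  rw [hn] at hd
  rw [(Nat.prime_dvd_prime_iff_eq hp Nat.prime_two).1 (hp.dvd_of_dvd_pow hd)]
  exact h2

/-- groups with involution centralizer `2^{1+6}.L₃(2)` -/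
theorem seven_of_hyp {G : Type*} [Group G] [Finite G] {z : G} {ι : CC →* G} (hy : Hyp z ι) {T : Sylow 2 G}
    (hT : (T : Subgroup G) = img ι T0) {π : Set ℕ} (h2 : 2 ∈ π) (h3 : 3 ∈ π) (h : DT π G) : 7 ∈ π := by
  have hTz : (T : Subgroup G) ≤ centralizer {z} := by
    rw [hT, ← hy.range]
    rintro _ ⟨x, -, rfl⟩
    exact ⟨x, rfl⟩
  have hN : normalizer ((T : Subgroup G) : Set G) ≤ centralizer {z} := (QTNorm.selfN_of_hyp hy T).trans hTz
  have h4 := (h.descend T hTz hN).map_equiv hy.equiv.symm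
  refine seven_mem h2 h3 (h4.of_surjective toL3 toL3_surjective ?_)
  rw [toL3_ker]
  exact isPi_of_two h2 isPGroup_QQ

/-- groups with a frame -/
theorem five_of_frame {G : Type*} [Group G] [Finite G] {z : G} {V : Subgroup G} {e : W → G} {σ : Equiv.Perm (Fin 6)}
    {g h : G} (fr : Frame z V e σ g h) {T : Sylow 2 G} (hTV : (T : Subgroup G) ≤ normalizer (V : Set G))
    (hN : normalizer ((T : Subgroup G) : Set G) ≤ (T : Subgroup G)) {π : Set ℕ} (h2 : 2 ∈ π) (h3 : 3 ∈ π)
    (hd : DT π G) : 5 ∈ π := by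
  have h4 := hd.descend T hTV (hN.trans hTV)
  have hs : Function.Surjective (pi.comp fr.psi) := fr.pi_surj.comp fr.psi_surj
  refine five_mem h2 h3 (h4.of_surjective (pi.comp fr.psi) hs ?_)
  have h5 := card_mul_index (pi.comp fr.psi).ker
  rw [index_ker, MonoidHom.range_eq_top.2 hs, card_top, card_S6, H70.HeFrameDat.card_norm fr] at h5
  exact isPi_of_card h2 h3 (a := 6) (b := 1) (by omega)

theorem he_row {π : Set ℕ} (h2 : 2 ∈ π) (h3 : 3 ∈ π) (hD : H543.PiBS.DC π Cfsg.Spor.He) :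
    H543.PiBS.PiGrp π Cfsg.Spor.He := by
  have hf := H70.HeCoat.finG
  have hs : IsSimpleGroup Cfsg.Spor.He := KFacts.He.Cent.simpleHe
  have hc : Nat.card Cfsg.Spor.He = 4030387200 := KFacts.He.Cent.card_He
  have hT := DT.of_dPi hD.isDPi h2
  obtain ⟨T, hTe⟩ := H70.HeCoat.exists_T
  have h7 : 7 ∈ π := seven_of_hyp hyp hTe h2 h3 hT
  have h5 : 5 ∈ π := five_of_frame H6.HeFrames.frame1 (H70.HeCoat.dat1 hTe).T_le (QTNorm.selfN_of_hyp hyp T) h2 h3 hT
  obtain ⟨H, hH⟩ := hD.exists_hall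
  have h17 : 17 ∈ π := by
    by_contra h17
    have hcard := card_mul_index H
    rw [hc] at hcard
    have key : ∀ p, p.Prime → p ∣ H.index → p = 17 := by
      intro p hp hd
      have h8 : p ∣ 2 ^ 10 * 3 ^ 3 * 5 ^ 2 * 7 ^ 3 * 17 := by
        have : (2 ^ 10 * 3 ^ 3 * 5 ^ 2 * 7 ^ 3 * 17 : ℕ) = 4030387200 := by norm_num
        rw [this, ← hcard]; exact hd.mul_left _
      by_contra hne
      have h9 : p = 2 ∨ p = 3 ∨ p = 5 ∨ p = 7 ∨ p = 17 := by
        rcases hp.dvd_mul.1 h8 with h8 | h8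
        · rcases hp.dvd_mul.1 h8 with h8 | h8
          · rcases hp.dvd_mul.1 h8 with h8 | h8
            · rcases hp.dvd_mul.1 h8 with h8 | h8
              · exact Or.inl ((Nat.prime_dvd_prime_iff_eq hp Nat.prime_two).1 (hp.dvd_of_dvd_pow h8))
              · exact Or.inr (Or.inl ((Nat.prime_dvd_prime_iff_eq hp Nat.prime_three).1 (hp.dvd_of_dvd_pow h8)))
            · exact Or.inr (Or.inr (Or.inl ((Nat.prime_dvd_prime_iff_eq hp Nat.prime_five).1 (hp.dvd_of_dvd_pow h8))))
          · exact Or.inr (Or.inr (Or.inr (Or.inl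
              ((Nat.prime_dvd_prime_iff_eq hp (by norm_num)).1 (hp.dvd_of_dvd_pow h8)))))
        · exact Or.inr (Or.inr (Or.inr (Or.inr ((Nat.prime_dvd_prime_iff_eq hp (by norm_num)).1 h8))))
      have hpi : p ∈ π := by
        rcases h9 with rfl | rfl | rfl | rfl | rfl
        · exact h2
        · exact h3
        · exact h5
        · exact h7
        · exact absurd rfl hne
      exact hH.2 p hp hpi hd
    have hn1 : H.index ≠ 1 := by
      intro h1
      rw [h1, mul_one] at hcard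
      exact h17 (hH.1 17 (by norm_num) (by rw [hcard]; norm_num))
    -- the index is a power of 17 dividing the order
    have hidx : H.index = 17 := by
      have hi : H.index ∣ 17 := by
        have hcop : Nat.Coprime H.index 237081600 := by
          rw [Nat.coprime_iff_gcd_eq_one]
          by_contra hg
          obtain ⟨p, hp, hd⟩ := Nat.exists_prime_and_dvd hg
          have e := key p hp (hd.trans (Nat.gcd_dvd_left _ _))
          rw [e] at hd
          have := hd.trans (Nat.gcd_dvd_right _ _)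
          revert this; decide
        have hd : H.index ∣ 237081600 * 17 := by
          rw [show (237081600 * 17 : ℕ) = 4030387200 by norm_num, ← hcard]
          exact Dvd.intro_left _ rfl
        exact hcop.dvd_of_dvd_mul_left hd
      rcases (Nat.dvd_prime (by norm_num)).1 hi with h | h
      · exact absurd h hn1
      · exact h
    have hcore : H.normalCore = ⊥ := by
      rcases hs.eq_bot_or_eq_top_of_normal H.normalCore inferInstance with h | h
      · exact h
      · exfalso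
        have h9 : H = ⊤ := top_le_iff.1 (h ▸ normalCore_le H)
        exact hn1 (index_eq_one.2 h9)
    have h10 := card_dvd_factorial H hcore
    rw [hc, hidx] at h10
    revert h10
    decide +kernel
  intro p hp hd
  rw [hc] at hd
  have h8 : p ∣ 2 ^ 10 * 3 ^ 3 * 5 ^ 2 * 7 ^ 3 * 17 := by
    have : (2 ^ 10 * 3 ^ 3 * 5 ^ 2 * 7 ^ 3 * 17 : ℕ) = 4030387200 := by norm_num
    rw [this]; exact hd
  rcases hp.dvd_mul.1 h8 with h8 | h8
  · rcases hp.dvd_mul.1 h8 with h8 | h8
    · rcases hp.dvd_mul.1 h8 with h8 | h8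
      · rcases hp.dvd_mul.1 h8 with h8 | h8
        · rw [(Nat.prime_dvd_prime_iff_eq hp Nat.prime_two).1 (hp.dvd_of_dvd_pow h8)]; exact h2
        · rw [(Nat.prime_dvd_prime_iff_eq hp Nat.prime_three).1 (hp.dvd_of_dvd_pow h8)]; exact h3
      · rw [(Nat.prime_dvd_prime_iff_eq hp Nat.prime_five).1 (hp.dvd_of_dvd_pow h8)]; exact h5
    · rw [(Nat.prime_dvd_prime_iff_eq hp (by norm_num)).1 (hp.dvd_of_dvd_pow h8)]; exact h7
  · rw [(Nat.prime_dvd_prime_iff_eq hp (by norm_num)).1 h8]; exact h17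

/-- **The row `He`.** -/
theorem row_He {S : Type*} [Group S] [Finite S] (h : Cfsg.Spor.IsoHe S) {pi : Set ℕ} (h2 : 2 ∈ pi) (h3 : 3 ∈ pi)
    (hD : H543.PiBS.DC pi S) : H543.PiBS.PiGrp pi S := by
  obtain ⟨e⟩ := h
  have h1 := he_row h2 h3 (hD.congr e)
  intro p hp hd
  rw [Nat.card_congr e.toEquiv] at hd
  exact h1 p hp hd

end Cfsg.Agent.H173.PiBS
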