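import Cfsg.Agent.H173.PiBS.AltEight
import Cfsg.Agent.H543.PiBS.Gen
import Cfsg.Agent.H809.SylB
import Cfsg.Agent.H799.MTSyl

/-!
# S3876: the row `McL` (helper173)

`row_McL`: if `2, 3 ∈ π` and every `π`-subgroup of the McLaughlin group lies in a Hall `π`-subgroup, all conjugate, then
all the primes of the order lie in `π`.  The centralizer `2.A₈` of an involution gives `5, 7 ∈ π`; a subgroup of index 11
does not exist.
-/

set_option autoImplicit false

namespace Cfsg.Agent.H173.PiBS

open Subgroup Cfsg Cfsg.Agent.H841.PiBS Cfsg.Agent.SporRec.LyFiveCov Cfsg.Agent.TypeM.Two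

universe u

/-- groups with one class of involutions and involution centralizer `2.A₈` -/
theorem five_seven_of_mt {G : Type u} [Group G] [Finite G] (L₀ : MT 8 G) {π : Set ℕ} (h2 : 2 ∈ π) (h3 : 3 ∈ π)
    (h : DT π G) : 5 ∈ π ∧ 7 ∈ π := by
  obtain ⟨T⟩ : Nonempty (Sylow 2 G) := inferInstance
  have : Fact (Nat.Prime 2) := ⟨Nat.prime_two⟩
  obtain ⟨z, hzS, hzz, hz1, hzc⟩ := H799.MTSyl.exists_central T (H799.MTSyl.ne_bot L₀ T)
  obtain ⟨L, rfl⟩ := L₀.exists_rebase hzz hz1
  have hSC : (T : Subgroup G) ≤ centralizer ({L.t} : Set G) := by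
    intro x hx
    rw [mem_centralizer_singleton_iff]
    exact hzc x hx
  have hN := H799.MTSyl.normalizer_le (by norm_num) (by norm_num) L T
  have h4 := h.descend T hSC (hN.trans hSC)
  refine alt_eight h2 h3 (h4.of_surjective (proj L.K) (proj_surjective L.K) ?_)
  have h5 : (proj L.K).ker = zpowers L.K.z := by
    ext x
    rw [MonoidHom.mem_ker]
    constructor
    · intro h
      rcases (L.K.ker x).1 (congrArg Subtype.val h) with h3 | h3
      · rw [h3]; exact one_mem _
      · rw [h3]; exact mem_zpowers _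
    · rintro ⟨k, rfl⟩
      apply Subtype.ext
      show L.K.π (L.K.z ^ k) = 1
      rw [map_zpow, L.K.π_z, one_zpow]
  rw [h5]
  refine isPi_of_card h2 h3 (a := 1) (b := 0) ?_
  rw [Nat.card_zpowers, L.K.orderOf_z]
  norm_num

/-- **The row `McL`.** -/
theorem row_McL {S : Type*} [Group S] [Finite S] (h : Cfsg.Spor.IsoMcL S) {pi : Set ℕ} (h2 : 2 ∈ pi) (h3 : 3 ∈ pi)
    (hD : H543.PiBS.DC pi S) : H543.PiBS.PiGrp pi S := by
  obtain ⟨-, hs, hc, ⟨L⟩⟩ := TypeM.FactsMcL.facts h
  have hT := DT.of_dPi hD.isDPi h2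
  obtain ⟨h5, h7⟩ := five_seven_of_mt L h2 h3 hT
  have hfac : (898128000 : ℕ) = 2 ^ 7 * 3 ^ 6 * 5 ^ 3 * 7 * 11 := by norm_num
  have hprimes : ∀ p, p.Prime → p ∣ 898128000 → p = 2 ∨ p = 3 ∨ p = 5 ∨ p = 7 ∨ p = 11 := by
    intro p hp h8
    rw [hfac] at h8
    rcases hp.dvd_mul.1 h8 with h8 | h8
    · rcases hp.dvd_mul.1 h8 with h8 | h8
      · rcases hp.dvd_mul.1 h8 with h8 | h8
        · rcases hp.dvd_mul.1 h8 with h8 | h8
          · exact Or.inl ((Nat.prime_dvd_prime_iff_eq hp Nat.prime_two).1 (hp.dvd_of_dvd_pow h8))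
          · exact Or.inr (Or.inl ((Nat.prime_dvd_prime_iff_eq hp Nat.prime_three).1 (hp.dvd_of_dvd_pow h8)))
        · exact Or.inr (Or.inr (Or.inl ((Nat.prime_dvd_prime_iff_eq hp (by norm_num)).1 (hp.dvd_of_dvd_pow h8))))
      · exact Or.inr (Or.inr (Or.inr (Or.inl ((Nat.prime_dvd_prime_iff_eq hp (by norm_num)).1 h8))))
    · exact Or.inr (Or.inr (Or.inr (Or.inr ((Nat.prime_dvd_prime_iff_eq hp (by norm_num)).1 h8))))
  obtain ⟨H, hH⟩ := hD.exists_hall
  have h11 : 11 ∈ pi := by
    by_contra h11
    have hcard := card_mul_index H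
    rw [hc] at hcard
    have key : ∀ p, p.Prime → p ∣ H.index → p = 11 := by
      intro p hp hd
      have h9 := hprimes p hp (by rw [← hcard]; exact hd.mul_left _)
      by_contra hne
      have hpi : p ∈ pi := by
        rcases h9 with rfl | rfl | rfl | rfl | rfl
        · exact h2
        · exact h3
        · exact h5
        · exact h7
        · exact absurd rfl hne
      exact hH.2 p hp hpi hd
    have hn1 : H.index ≠ 1 := by
      intro h1
      rw [h1, mul_one] at hcard
      exact h11 (hH.1 11 (by norm_num) (by rw [hcard]; norm_num))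
    have hidx : H.index = 11 := by
      have hi : H.index ∣ 11 := by
        have hcop : Nat.Coprime H.index 81648000 := by
          rw [Nat.coprime_iff_gcd_eq_one]
          by_contra hg
          obtain ⟨p, hp, hd⟩ := Nat.exists_prime_and_dvd hg
          have e := key p hp (hd.trans (Nat.gcd_dvd_left _ _))
          rw [e] at hd
          have := hd.trans (Nat.gcd_dvd_right _ _)
          revert this; decide
        have hd : H.index ∣ 81648000 * 11 := by
          rw [show (81648000 * 11 : ℕ) = 898128000 by norm_num, ← hcard]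
          exact Dvd.intro_left _ rfl
        exact hcop.dvd_of_dvd_mul_left hd
      rcases (Nat.dvd_prime (by norm_num)).1 hi with h | h
      · exact absurd h hn1
      · exact h
    have hcore : H.normalCore = ⊥ := by
      rcases hs.eq_bot_or_eq_top_of_normal H.normalCore inferInstance with h | h
      · exact h
      · exfalso
        have h9 : H = ⊤ := top_le_iff.1 (h ▸ normalCore_le H)
        exact hn1 (index_eq_one.2 h9)
    have h10 := card_dvd_factorial H hcore
    rw [hc, hidx] at h10
    exact absurd (Nat.le_of_dvd (by decide) h10) (by decide)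
  intro p hp hd
  rw [hc] at hd
  rcases hprimes p hp hd with rfl | rfl | rfl | rfl | rfl
  · exact h2
  · exact h3
  · exact h5
  · exact h7
  · exact h11

end Cfsg.Agent.H173.PiBS
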